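import Cfsg.Agent.Lib.LinF.PSL
import Cfsg.Agent.Lib.LocStruct.SylowIn

/-! # Diagonal and monomial matrices in the standard Sylow `2`-subgroup of a linear group -/

set_option autoImplicit false
set_option linter.unusedSectionVars false

namespace H20.LN.Sc

open Subgroup Matrix H14.LF H82 H10 H69
open Equiv (Perm)

variable {F : Type} [Field F] {ι κ J : Type} [Fintype ι] [Fintype κ] [Fintype J]
  [DecidableEq ι] [DecidableEq κ] [DecidableEq J]

/-- The `2`-elements of the multiplicative group. -/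
def E2 (F : Type) [Field F] : Subgroup Fˣ where
  carrier := {x | ∃ k : ℕ, x ^ 2 ^ k = 1}
  one_mem' := ⟨0, by simp⟩
  mul_mem' := fun ⟨k, hk⟩ ⟨l, hl⟩ => ⟨k + l, by
    rw [mul_pow, pow_add, pow_mul, hk, mul_comm (2 ^ k), pow_mul, hl, one_pow, one_pow, mul_one]⟩
  inv_mem' := fun ⟨k, hk⟩ => ⟨k, by rw [inv_pow, hk, inv_one]⟩

/-- Permutation matrices. -/
def pm (F : Type) [Field F] : Perm J →* GL J F := (permMatrixHom (R := F)).toHomUnits

/-- Diagonal matrices with one non-trivial entry. -/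
def ds (j : J) : Fˣ →* GL J F := diagGL.comp (MonoidHom.mulSingle (fun _ : J => Fˣ) j)

/-- The diagonal involutions. -/
def tG (F : Type) [Field F] (a b : J) : GL J F := ds a (-1) * ds b (-1)

/-- The centraliser has all determinants. -/
def AllD (x : GL J F) : Prop := ∀ c : Fˣ, ∃ z, GeneralLinearGroup.det z = c ∧ z * x = x * z

/-- The preimage of a subgroup of the projective group. -/
def up (X : Subgroup (ProjectiveSpecialLinearGroup J F)) : Subgroup (GL J F) :=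
  (X.comap (toPSL J F)).map (slK J F).subtype

theorem eqns_SCB : True := by
  have := @E2.eq_1
  have := @pm.eq_1
  have := @ds.eq_1
  have := @tG.eq_1
  have := @AllD.eq_1
  have := @up.eq_1
  trivial

theorem neg_mem_E2 : (-1 : Fˣ) ∈ E2 F := ⟨1, by simp⟩

theorem pm_mulVec (σ : Perm J) (v : J → F) : (pm F σ).val *ᵥ v = v ∘ (σ⁻¹ : Perm J) :=
  permMatrix_mulVec _

theorem tau_eq (e : Fin 2 × ι ⊕ κ ≃ J) (s : Perm ι) : (glWr F e).τ s = pm F (blkPerm e s) := rfl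

theorem pm_dG (σ : Perm J) (u : J → Fˣ) :
    pm F σ * diagGL u * (pm F σ)⁻¹ = diagGL fun j => u (σ⁻¹ j) := by
  rw [mul_inv_eq_iff_eq_mul]
  refine gl_ext fun v => funext fun x => ?_
  simp only [Units.val_mul, ← mulVec_mulVec, pm_mulVec, diagGL_val, Function.comp, mulVec_diagonal]

theorem ds_def (j : J) (c : Fˣ) : ds j c = diagGL (Pi.mulSingle j c) := rfl

theorem pm_ds (σ : Perm J) (j : J) (c : Fˣ) : pm F σ * ds j c * (pm F σ)⁻¹ = ds (σ j) c := by
  rw [ds_def, pm_dG, ds_def]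
  congr 1
  funext x
  simp only [Pi.mulSingle_apply, Equiv.Perm.inv_eq_iff_eq]

theorem dG_inj : Function.Injective (diagGL : (J → Fˣ) →* GL J F) := fun u v h =>
  funext fun j => Units.ext (by simpa using congrArg (fun g : GL J F => g.val j j) h)

theorem det_dG (u : J → Fˣ) : GeneralLinearGroup.det (diagGL u) = ∏ j, u j :=
  Units.ext (by simp)

theorem det_ds (j : J) (c : Fˣ) : GeneralLinearGroup.det (ds j c) = c := by
  rw [ds_def, det_dG, Finset.prod_pi_mulSingle', if_pos (Finset.mem_univ _)]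

theorem scalar_eq (c : Fˣ) : GeneralLinearGroup.scalar J c = diagGL fun _ => c := Units.ext rfl

theorem dG_eq (e : Fin 2 × ι ⊕ κ ≃ J) (u : J → Fˣ) : diagGL u = (glWr F e).Φ
    (fun l => diagGL fun k => u (e (.inl (k, l))), diagGL fun k => u (e (.inr k))) := by
  refine gl_ext fun v => funext fun x => ?_
  rw [glWr_Phi_val]
  obtain ⟨(⟨a, b⟩ | a), rfl⟩ := e.surjective x
  · rw [blk_mulVec_inl]; simp [mulVec_diagonal]
  · rw [blk_mulVec_inr]; simp [mulVec_diagonal]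

theorem Phi_dG (e : Fin 2 × ι ⊕ κ ≃ J) (u : ι → Fin 2 → Fˣ) (c : κ → Fˣ) :
    (glWr F e).Φ (fun l => diagGL (u l), diagGL c) =
      diagGL fun j => Sum.elim (fun p => u p.2 p.1) c (e.symm j) := by
  rw [dG_eq e]
  simp

theorem φ_ds (e : Fin 2 × ι ⊕ κ ≃ J) (i : ι) (k : Fin 2) (c : Fˣ) :
    (glWr F e).φ i (ds k c) = ds (e (.inl (k, i))) c := by
  rw [ds_def (e _), dG_eq e, Wr.φ_apply]
  congr 2
  · funext l
    by_cases h : l = i
    · subst h
      rw [Pi.mulSingle_eq_same, ds_def]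
      congr 1
      funext x
      simp [Pi.mulSingle_apply]
    · rw [Pi.mulSingle_eq_of_ne h, ← map_one diagGL]
      congr 1
      funext x
      simp [h]
  · rw [← map_one diagGL]
    congr 1
    funext x
    simp

theorem tG_two : tG F (0 : Fin 2) 1 = -1 := Units.ext (by
  ext i j
  fin_cases i <;> fin_cases j <;> simp [tG, ds_def])

theorem tG_mem (a b : J) : tG F a b ∈ slK J F := by
  rw [MonoidHom.mem_ker, tG, map_mul, det_ds, det_ds]
  simp

theorem ex_perm {a b c d : J} (h : a ≠ b) (h' : c ≠ d) : ∃ σ : Perm J, σ a = c ∧ σ b = d := by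
  have h1 : c ≠ Equiv.swap a c b := fun e => h ((Equiv.swap a c).injective (by
    rw [← e, Equiv.swap_apply_left]))
  exact ⟨Equiv.swap (Equiv.swap a c b) d * Equiv.swap a c, by
    rw [Equiv.Perm.mul_apply, Equiv.swap_apply_left, Equiv.swap_apply_of_ne_of_ne h1 h'],
    by rw [Equiv.Perm.mul_apply, Equiv.swap_apply_left]⟩

theorem ds_conj {a b c d : J} (h : a ≠ b) (h' : c ≠ d) (x y : Fˣ) :
    IsConj (ds a x * ds b y) (ds c x * ds d y) := by
  obtain ⟨σ, rfl, rfl⟩ := ex_perm h h'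
  exact isConj_iff.2 ⟨pm F σ, by rw [← conj_mul, pm_ds, pm_ds]⟩

theorem AllD.sl {x y : GL J F} (h : AllD x) (hc : IsConj x y) :
    ∃ g ∈ slK J F, g * x * g⁻¹ = y := by
  obtain ⟨g, rfl⟩ := isConj_iff.1 hc
  obtain ⟨z, h1, h2⟩ := h (GeneralLinearGroup.det g)⁻¹
  exact ⟨g * z, by rw [MonoidHom.mem_ker, map_mul, h1, mul_inv_cancel], by
    rw [mul_assoc g, h2]; group⟩

theorem allD_dG [Nonempty J] (u : J → Fˣ) : AllD (diagGL u) := fun c =>
  ⟨ds (Classical.arbitrary J) c, det_ds _ _, by rw [ds_def, ← map_mul, ← map_mul, mul_comm]⟩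

theorem allD_ds (a b : J) (x y : Fˣ) : AllD (ds a x * ds b y) := by
  have : Nonempty J := ⟨a⟩
  rw [ds_def, ds_def, ← map_mul]
  exact allD_dG _

theorem sl_of_conj {x y : GL J F} (hc : IsConj x y) (h : x ∈ slK J F) : y ∈ slK J F := by
  obtain ⟨g, rfl⟩ := isConj_iff.1 hc
  exact (MonoidHom.normal_ker _).conj_mem _ h g

theorem conj_of_add {A B : GL J F} (hA : A * A = 1) (hB : B * B = 1)
    (h : ∀ v, A.val *ᵥ v + B.val *ᵥ v = 0 → v = 0) : IsConj B A := by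
  obtain ⟨g, hg⟩ : IsUnit (A.val + B.val) := mulVec_injective_iff_isUnit.1 fun v w hv =>
    sub_eq_zero.1 (h _ (by rw [← add_mulVec, mulVec_sub, sub_eq_zero]; exact hv))
  refine isConj_iff.2 ⟨g, ?_⟩
  rw [mul_inv_eq_iff_eq_mul]
  apply Units.ext
  rw [Units.val_mul, Units.val_mul, hg, add_mul, mul_add, ← Units.val_mul B, ← Units.val_mul A A,
    hA, hB, add_comm]

theorem pm_conj (h2 : (2 : F) ≠ 0) {σ : Perm J} (h : σ * σ = 1) (r : J → ℕ)
    (hr : Function.Injective r) :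
    IsConj (diagGL fun j => if r (σ j) < r j then (-1 : Fˣ) else 1) (pm F σ) := by
  have hσ : ∀ x, σ (σ x) = x := fun x => congrFun (congrArg DFunLike.coe h) x
  refine conj_of_add (by rw [← map_mul, h, map_one]) ?_ fun v hv => funext fun x => ?_
  · rw [← map_mul, ← map_one diagGL]
    congr 1
    funext x
    simp only [Pi.mul_apply, Pi.one_apply]
    split_ifs <;> simp
  have h1 := congrFun hv x
  have h3 := congrFun hv (σ x)
  simp only [pm_mulVec, inv_eq_of_mul_eq_one_right h, Pi.add_apply, Function.comp, diagGL_val,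
    mulVec_diagonal, hσ, Pi.zero_apply] at h1 h3
  refine (mul_eq_zero.1 (show 2 * v x = 0 from ?_)).resolve_left h2
  rcases lt_trichotomy (r (σ x)) (r x) with h4 | h4 | h4
  · simp only [h4, h4.not_gt, if_true, if_false, Units.val_neg, Units.val_one] at h1 h3
    linear_combination h3 - h1
  · simp only [hr h4, lt_irrefl, if_false, Units.val_one] at h1
    linear_combination h1
  · simp only [h4, h4.not_gt, if_true, if_false, Units.val_neg, Units.val_one] at h1 h3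
    linear_combination h3 + h1

theorem mem_up {X : Subgroup (ProjectiveSpecialLinearGroup J F)} {g : GL J F} (h : g ∈ slK J F) :
    g ∈ up X ↔ toPSL J F ⟨g, h⟩ ∈ X :=
  ⟨fun ⟨x, hx, e⟩ => by subst e; exact hx, fun hx => ⟨⟨g, h⟩, hx, rfl⟩⟩

theorem up_le (X : Subgroup (ProjectiveSpecialLinearGroup J F)) : up X ≤ slK J F :=
  map_subtype_le _

theorem cj_tG {a b : J} (g : slK J F) (h : IsConj (tG F a b) g.1) :
    IsConj (toPSL J F ⟨_, tG_mem a b⟩) (toPSL J F g) := by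
  obtain ⟨k, hk, e⟩ := (allD_ds a b _ _).sl h
  exact (toPSL J F).map_isConj (isConj_iff.2 ⟨⟨k, hk⟩, Subtype.ext e⟩)

/-- The properties of the Sylow subgroup in two dimensions. -/
structure GD (D : Subgroup (GL (Fin 2) F)) (y j : GL (Fin 2) F) : Prop where
  two : (2 : F) ≠ 0
  pg : IsPGroup 2 D
  dg : ∀ u : Fin 2 → Fˣ, (∀ k, u k ∈ E2 F) → diagGL u ∈ D
  wD : pm F (Equiv.swap 0 1) ∈ D
  yD : y ∈ D
  jD : j ∈ D
  y4 : O4 y
  j4 : O4 j
  jy : j * y = -(y * j)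
  alt : ∀ d ∈ D, d * y = y * d ∨ d * y = -(y * d)
  rc : ∀ a b : GL (Fin 2) F, O4 a → O4 b → ∃ k ∈ slK (Fin 2) F, k * a * k⁻¹ = b

/-- The block monomial matrices of determinant one lie in `T`. -/
structure Mo (e : Fin 2 × ι ⊕ κ ≃ J) (D : Subgroup (GL (Fin 2) F)) (P : Subgroup (Perm ι))
    (T : Subgroup (GL J F)) : Prop where
  le : T ≤ slK J F
  mem : ∀ f c, ∀ s ∈ P, (∀ l, f l ∈ D) → (glWr F e).Φ (f, c) ∈ slK J F →
    (glWr F e).Φ (f, c) * (glWr F e).τ s ∈ T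

/-- `R` is strongly closed in `T`. -/
structure Cl (T R : Subgroup (GL J F)) : Prop where
  le : R ≤ T
  cj : ∀ x ∈ R, ∀ g ∈ slK J F, g * x * g⁻¹ ∈ T → g * x * g⁻¹ ∈ R

theorem Cl.ad {T R : Subgroup (GL J F)} (h : Cl T R) {x y : GL J F} (hx : x ∈ R) (ha : AllD x)
    (hc : IsConj x y) (hy : y ∈ T) : y ∈ R := by
  obtain ⟨g, hg, rfl⟩ := ha.sl hc
  exact h.cj x hx g hg hy

theorem w_conj (h2 : (2 : F) ≠ 0) : IsConj (ds 1 (-1)) (pm F (Equiv.swap (0 : Fin 2) 1)) := by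
  have := pm_conj h2 (Equiv.swap_mul_self (0 : Fin 2) 1) _ Fin.val_injective
  convert this using 1
  rw [ds_def]
  congr 1
  funext x
  fin_cases x <;> simp

theorem w_sq : pm F (Equiv.swap (0 : Fin 2) 1) * pm F (Equiv.swap 0 1) = 1 := by
  rw [← map_mul, Equiv.swap_mul_self, map_one]

theorem ds_sq (j : J) : ds j (-1 : Fˣ) * ds j (-1) = 1 := by
  rw [← map_mul]; simp

theorem det_w (h2 : (2 : F) ≠ 0) :
    GeneralLinearGroup.det (pm F (Equiv.swap (0 : Fin 2) 1)) = -1 := by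
  rw [← det_ds (1 : Fin 2) (-1 : Fˣ)]
  exact (isConj_iff_eq.1 (GeneralLinearGroup.det.map_isConj (w_conj h2))).symm

theorem x4 (h2 : (2 : F) ≠ 0) : O4 (ds 0 (-1) * pm F (Equiv.swap (0 : Fin 2) 1)) := by
  refine ⟨by rw [MonoidHom.mem_ker, map_mul, det_ds, det_w h2]; simp, ?_⟩
  have := pm_ds (F := F) (Equiv.swap (0 : Fin 2) 1) 0 (-1)
  rw [Equiv.swap_apply_left, inv_eq_of_mul_eq_one_right w_sq] at this
  rw [← tG_two, tG, pow_two, ← this]
  simp only [mul_assoc]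

theorem φ_sl (e : Fin 2 × ι ⊕ κ ≃ J) (i : ι) {q : GL (Fin 2) F} (h : q ∈ slK (Fin 2) F) :
    (glWr F e).φ i q ∈ slK J F := by
  rwa [MonoidHom.mem_ker, det_glWr_φ]

theorem tau_sl (e : Fin 2 × ι ⊕ κ ≃ J) (s : Perm ι) : (glWr F e).τ s ∈ slK J F :=
  det_glWr_tau e (by simp) s

theorem φ_neg (e : Fin 2 × ι ⊕ κ ≃ J) (i : ι) :
    (glWr F e).φ i (-1) = tG F (e (.inl (0, i))) (e (.inl (1, i))) := by
  rw [← tG_two, tG, map_mul, φ_ds, φ_ds, tG]

theorem Phi_φ (e : Fin 2 × ι ⊕ κ ≃ J) (f : ι → GL (Fin 2) F) (c : GL κ F) (i : ι)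
    (q : GL (Fin 2) F) : (glWr F e).Φ (f, c) * (glWr F e).φ i q * ((glWr F e).Φ (f, c))⁻¹ =
      (glWr F e).φ i (f i * q * (f i)⁻¹) := by
  rw [Wr.φ_apply, Wr.φ_apply, ← map_mul, ← map_inv, ← map_mul]
  congr 1
  refine Prod.ext (funext fun l => ?_) (by simp)
  by_cases h : l = i
  · subst h; simp
  · simp [h]

theorem mon_φ (e : Fin 2 × ι ⊕ κ ≃ J) (f : ι → GL (Fin 2) F) (c : GL κ F) (s : Perm ι) (i : ι)
    (q : GL (Fin 2) F) : (glWr F e).Φ (f, c) * (glWr F e).τ s * (glWr F e).φ i q *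
      ((glWr F e).Φ (f, c) * (glWr F e).τ s)⁻¹ =
      (glWr F e).φ (s i) (f (s i) * q * (f (s i))⁻¹) := by
  rw [← Phi_φ e f c, ← Wr.tau_φ]
  group

section uv

variable (e : Fin 2 × ι ⊕ κ ≃ J) {i l : ι} (h : i ≠ l) {a b : J} (hab : a ≠ b)
include h hab

theorem u_conj (k : Fin 2) :
    IsConj (tG F a b) ((glWr F e).φ i (ds k (-1)) * (glWr F e).φ l (ds 0 (-1))) := by
  rw [φ_ds, φ_ds]
  exact ds_conj hab (by simp [h]) _ _

theorem v_conj (h2 : (2 : F) ≠ 0) : IsConj (tG F a b)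
    ((glWr F e).φ i (pm F (Equiv.swap 0 1)) * (glWr F e).φ l (ds 0 (-1))) := by
  obtain ⟨g, hg⟩ := isConj_iff.1 (w_conj h2)
  refine (u_conj e h hab 1).trans (isConj_iff.2 ⟨(glWr F e).φ i g, ?_⟩)
  rw [← hg, map_mul, map_mul, map_inv, mul_assoc _ _ ((glWr F e).φ l _),
    ((glWr F e).φ_comm h g _).inv_left.eq]
  simp only [mul_assoc]

omit h in
theorem t_conj (i : ι) : IsConj (tG F a b) ((glWr F e).φ i (-1)) := by
  rw [φ_neg]
  exact ds_conj hab (by simp) _ _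

omit hab in
theorem uv_eq (p q : GL (Fin 2) F) : (glWr F e).φ i p * (glWr F e).φ l (ds 0 (-1)) *
    ((glWr F e).φ i q * (glWr F e).φ l (ds 0 (-1))) = (glWr F e).φ i (p * q) := by
  rw [((glWr F e).φ_comm h q _).symm.mul_mul_mul_comm, ← map_mul, ← map_mul, ds_sq, map_one,
    mul_one]

end uv

namespace GD

variable {D : Subgroup (GL (Fin 2) F)} {y j : GL (Fin 2) F} (h : GD D y j)
include h

theorem ds_mem (k : Fin 2) {c : Fˣ} (hc : c ∈ E2 F) : ds k c ∈ D := h.dg _ fun l => by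
  rw [MonoidHom.mulSingle_apply, Pi.mulSingle_apply]
  split_ifs
  exacts [hc, one_mem _]

theorem det_mem {d : GL (Fin 2) F} (hd : d ∈ D) : GeneralLinearGroup.det d ∈ E2 F :=
  (isPGroup_iff_mem.1 h.pg d hd).imp fun k hk => by rw [← map_pow, hk, map_one]

theorem o4 {d : GL (Fin 2) F} (hd : d ∈ slK (Fin 2) F) (h1 : d * y = -(y * d)) : O4 d :=
  ⟨hd, by rw [sq_anti h.two h1, MonoidHom.mem_ker.1 hd, mul_one, ← tG_two]; exact Units.ext (by
    ext a b; fin_cases a <;> fin_cases b <;> simp [tG, ds_def])⟩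

theorem gen {H : Subgroup (GL (Fin 2) F)} (hH : ∀ d ∈ D, O4 d → d ∈ H) {q : GL (Fin 2) F}
    (hq : q ∈ D) (h1 : q ∈ slK (Fin 2) F) : q ∈ H := by
  rcases h.alt q hq with e | e
  · refine (H.mul_mem_cancel_right (hH j h.jD h.j4)).1 (hH _ (mul_mem hq h.jD)
      (h.o4 (mul_mem h1 h.j4.1) ?_))
    rw [mul_assoc, h.jy, mul_neg, ← mul_assoc, e, mul_assoc]
  · exact hH q hq (h.o4 h1 e)

theorem neg_mem {H : Subgroup (GL (Fin 2) F)} {q : GL (Fin 2) F} (hq : q ∈ D)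
    (h1 : q ∈ slK (Fin 2) F) (hH : q ∈ H) (h2 : q ≠ 1) : -1 ∈ H := by
  obtain ⟨k, hk⟩ := isPGroup_iff_mem.1 h.pg q hq
  induction k with
  | zero => exact absurd (by simpa using hk) h2
  | succ k ih =>
    rcases GL2_eq_of_sq h.two (pow_mem h1 (2 ^ k)) (by rw [← pow_mul, ← pow_succ, hk]) with e | e
    · exact ih e
    · exact e ▸ pow_mem hH _

theorem anti {x : GL (Fin 2) F} (hx : x ∈ D) (h4 : O4 x) :
    ∃ z ∈ D, O4 z ∧ z * x = -(x * z) := by
  rcases h.alt x hx with e | e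
  · refine ⟨j, h.jD, h.j4, ?_⟩
    rcases h.y4.eq_of_comm h.two h4 e with rfl | rfl <;> simp [h.jy]
  · exact ⟨y, h.yD, h.y4, by rw [e, neg_neg]⟩

end GD

namespace Mo

variable {e : Fin 2 × ι ⊕ κ ≃ J} {D : Subgroup (GL (Fin 2) F)} {P : Subgroup (Perm ι)}
  {T : Subgroup (GL J F)} (h : Mo e D P T)
include h

theorem Phi {f : ι → GL (Fin 2) F} {c : GL κ F} (hf : ∀ l, f l ∈ D)
    (h1 : (glWr F e).Φ (f, c) ∈ slK J F) : (glWr F e).Φ (f, c) ∈ T := by
  simpa using h.mem f c 1 (one_mem _) hf h1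

theorem tau {s : Perm ι} (hs : s ∈ P) : (glWr F e).τ s ∈ T := by
  have := h.mem 1 1 s hs (fun _ => one_mem _) (by rw [Prod.mk_one_one, map_one]; exact one_mem _)
  rwa [Prod.mk_one_one, map_one, one_mul] at this

theorem two (i l : ι) {p q : GL (Fin 2) F} (hp : p ∈ D) (hq : q ∈ D)
    (h1 : (glWr F e).φ i p * (glWr F e).φ l q ∈ slK J F) :
    (glWr F e).φ i p * (glWr F e).φ l q ∈ T := by
  rw [Wr.φ_apply, Wr.φ_apply, ← map_mul] at h1 ⊢
  refine h.Phi (fun k => mul_mem ?_ ?_) h1 <;> simp only [Pi.mulSingle_apply] <;> split_ifs <;>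
    first | assumption | exact one_mem _

theorem one (i : ι) {p : GL (Fin 2) F} (hp : p ∈ D) (h1 : p ∈ slK (Fin 2) F) :
    (glWr F e).φ i p ∈ T := by
  simpa using h.two i i hp (one_mem _) (by simpa using φ_sl e i h1)

theorem dG {y j : GL (Fin 2) F} (hD : GD D y j) {u : J → Fˣ} (hu : ∀ k, u k ∈ E2 F)
    (h1 : diagGL u ∈ slK J F) : diagGL u ∈ T := by
  rw [dG_eq e] at h1 ⊢
  exact h.Phi (fun l => hD.dg _ fun k => hu _) h1

end Mo

section closed

variable {e : Fin 2 × ι ⊕ κ ≃ J} {D : Subgroup (GL (Fin 2) F)} {y j : GL (Fin 2) F}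
  {P : Subgroup (Perm ι)} {T R : Subgroup (GL J F)} (hD : GD D y j) (hT : Mo e D P T) (hR : Cl T R)
  {a b : J} (hab : a ≠ b)
include hD hT hR hab

section all

variable [Nontrivial ι] (ht : ∀ g ∈ T, IsConj (tG F a b) g → g ∈ R)
include ht

theorem Q_mem (i : ι) {q : GL (Fin 2) F} (hq : q ∈ D) (h1 : q ∈ slK (Fin 2) F) :
    (glWr F e).φ i q ∈ R := by
  obtain ⟨l, hl⟩ := exists_ne i
  have h0 := hD.ds_mem 0 neg_mem_E2
  have hu := u_conj (F := F) e hl.symm hab 0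
  have hv := v_conj e hl.symm hab hD.two
  have hx := mul_mem (ht _ (hT.two i l h0 h0 (sl_of_conj hu (tG_mem a b))) hu)
    (ht _ (hT.two i l hD.wD h0 (sl_of_conj hv (tG_mem a b))) hv)
  rw [uv_eq e hl.symm] at hx
  refine hD.gen (H := R.comap ((glWr F e).φ i)) (fun d hd h4 => ?_) hq h1
  obtain ⟨k, hk, rfl⟩ := hD.rc _ _ (x4 hD.two) h4
  have h2 := hT.one i hd h4.1
  rw [mem_comap]
  rw [map_mul, map_mul, map_inv] at h2 ⊢
  exact hR.cj _ hx _ (φ_sl e i hk) h2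

theorem dG_mem {u : J → Fˣ} (hu : ∀ k, u k ∈ E2 F) (h1 : diagGL u ∈ slK J F) : diagGL u ∈ R := by
  obtain ⟨i⟩ : Nonempty ι := inferInstance
  have h2 : ∀ k, ∀ x ∈ E2 F, ds k x * ds a x⁻¹ ∈ R := fun k x hx => by
    by_cases h : k = a
    · rw [h, ← map_mul, mul_inv_cancel, map_one]; exact one_mem _
    have h3 : ∀ {K : Type} [Fintype K] [DecidableEq K] (c d : K), ds c x * ds d x⁻¹ ∈ slK K F :=
      fun c d => by rw [MonoidHom.mem_ker, map_mul, det_ds, det_ds, mul_inv_cancel]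
    have h4 := Q_mem hD hT hR hab ht i (mul_mem (hD.ds_mem 0 hx) (hD.ds_mem 1 (inv_mem hx)))
      (h3 0 1)
    rw [map_mul, φ_ds, φ_ds] at h4
    refine hR.ad h4 (allD_ds _ _ _ _) (ds_conj (by simp) h _ _) ?_
    have h5 := h3 k a
    rw [ds_def, ds_def, ← map_mul] at h5 ⊢
    refine hT.dG hD (fun p => mul_mem ?_ ?_) h5 <;> simp only [Pi.mulSingle_apply] <;>
      split_ifs <;> first | assumption | exact one_mem _ | exact inv_mem hx
  rw [MonoidHom.mem_ker, det_dG] at h1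
  have h3 : u = ∏ k, (Pi.mulSingle k (u k) * Pi.mulSingle a (u k)⁻¹ : J → Fˣ) := by
    rw [Finset.prod_mul_distrib, Finset.univ_prod_mulSingle]
    have := map_prod (MonoidHom.mulSingle (fun _ : J => Fˣ) a) (fun k => (u k)⁻¹) Finset.univ
    simp only [MonoidHom.mulSingle_apply] at this
    rw [← this, Finset.prod_inv_distrib, h1, inv_one, Pi.mulSingle_one, mul_one]
  rw [h3, ← mem_comap]
  exact prod_mem fun k _ => by rw [mem_comap, map_mul]; exact h2 k _ (hu k)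

theorem gm_mem (hP : P ≤ closure {x | x ∈ P ∧ x * x = 1}) {f : ι → GL (Fin 2) F}
    (hf : ∀ l, f l ∈ D) {s : Perm ι} (hs : s ∈ P) (h1 : gm e f s ∈ slK J F) : gm e f s ∈ R := by
  have : Nonempty J := ⟨a⟩
  have h2 := (mul_mem_cancel_right (tau_sl e s)).1 h1
  refine mul_mem ?_ ((closure_le (R.comap (glWr F e).τ)).2 (fun t ht' => ?_) (hP hs))
  · have h3 : ∀ l, f l * (ds 0 (GeneralLinearGroup.det (f l)))⁻¹ ∈ D ⊓ slK (Fin 2) F := fun l =>
      mem_inf.2 ⟨mul_mem (hf l) (inv_mem (hD.ds_mem 0 (hD.det_mem (hf l)))), by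
        rw [MonoidHom.mem_ker, map_mul, map_inv, det_ds, mul_inv_cancel]⟩
    have h4 := (glWr F e).base_le (D' := D ⊓ slK (Fin 2) F) (C' := ⊥)
      (fun i d hd => Q_mem hD hT hR hab ht i hd.1 hd.2)
      (fun c hc => by rw [mem_bot.1 hc, map_one]; exact one_mem _)
      ((glWr F e).mem_base.2 ⟨_, 1, h3, one_mem _, rfl⟩)
    generalize hc : GeneralLinearGroup.scalar κ (∏ l, GeneralLinearGroup.det (f l))⁻¹ = c at h2 ⊢
    have h5 : (glWr F e).Φ (f, c) = (glWr F e).Φ (fun l =>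
        f l * (ds 0 (GeneralLinearGroup.det (f l)))⁻¹, 1) *
        (glWr F e).Φ (fun l => ds 0 (GeneralLinearGroup.det (f l)), c) := by
      rw [← map_mul]
      congr 1
      exact Prod.ext (funext fun l => by simp) (by simp)
    rw [h5] at h2 ⊢
    refine mul_mem h4 ?_
    have h6 := (mul_mem_cancel_left (hT.le (hR.le h4))).1 h2
    simp only [← hc, scalar_eq, ds_def, Phi_dG] at h6 ⊢
    refine dG_mem hD hT hR hab ht (fun k => ?_) h6
    rcases e.symm k with p | p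
    · simp only [Sum.elim_inl, Pi.mulSingle_apply]
      split_ifs
      exacts [hD.det_mem (hf _), one_mem _]
    · exact inv_mem (prod_mem fun l _ => hD.det_mem (hf l))
  · obtain ⟨r, hr⟩ := exists_injective_nat J
    have h3 := pm_conj hD.two (σ := blkPerm e t) (by rw [← map_mul, ht'.2, map_one]) r hr
    refine hR.ad (dG_mem hD hT hR hab ht (fun k => ?_) (sl_of_conj h3.symm (tau_sl e t)))
      (allD_dG _) h3 (hT.tau ht'.1)
    split_ifs
    exacts [neg_mem_E2, one_mem _]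

end all

section none

variable (hn : ∀ g ∈ R, ¬ IsConj (tG F a b) g)
include hn

theorem comm_mem (i : ι) {q : GL (Fin 2) F} (hq : q ∈ D) (h1 : q ∈ slK (Fin 2) F) {r : GL J F}
    (hr : r ∈ R) : (glWr F e).φ i q * r * ((glWr F e).φ i q)⁻¹ ∈ R :=
  hR.cj r hr _ (φ_sl e i h1) (mul_mem (mul_mem (hT.one i hq h1) (hR.le hr))
    (inv_mem (hT.one i hq h1)))

theorem perm_one {f : ι → GL (Fin 2) F} {c : GL κ F} {s : Perm ι}
    (hr : (glWr F e).Φ (f, c) * (glWr F e).τ s ∈ R) : s = 1 := by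
  ext i
  by_contra h
  have h1 := mul_mem hr (comm_mem hD hT hR hab hn i hD.yD hD.y4.1 (inv_mem hr))
  rw [← mul_assoc, ← mul_assoc, mon_φ] at h1
  have h2 := mul_mem (inv_mem h1) (comm_mem hD hT hR hab hn i hD.jD hD.j4.1 h1)
  refine hn _ h2 ?_
  convert t_conj (F := F) e hab i using 1
  rw [← mul_assoc ((glWr F e).φ i j), ← ((glWr F e).φ_comm (show s i ≠ i from h) _ j).eq]
  have : -1 = y * j * y⁻¹ * j⁻¹ := by rw [← neg_neg (y * j), ← hD.jy]; simp
  rw [this]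
  simp only [map_mul, map_inv]
  group

theorem blk_scalar {f : ι → GL (Fin 2) F} {c : GL κ F} (hf : ∀ l, f l ∈ D)
    (hr : (glWr F e).Φ (f, c) ∈ R) (i : ι) : ∃ μ, f i = GeneralLinearGroup.scalar (Fin 2) μ := by
  have key : ∀ q ∈ D, q ∈ slK (Fin 2) F → f i * q = q * f i := fun q hq h1 => by
    have h2 := mul_mem hr (comm_mem hD hT hR hab hn i hq h1 (inv_mem hr))
    rw [← mul_assoc, ← mul_assoc, Phi_φ, ← map_inv, ← map_mul] at h2
    by_contra h3
    exact hn _ (hD.neg_mem (H := R.comap ((glWr F e).φ i))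
      (mul_mem (mul_mem (mul_mem (hf i) hq) (inv_mem (hf i))) (inv_mem hq))
      (mul_mem ((MonoidHom.normal_ker _).conj_mem _ h1 _) (inv_mem h1)) h2
      fun h4 => h3 (mul_inv_eq_iff_eq_mul.1 (mul_inv_eq_one.1 h4))) (t_conj e hab i)
  exact hD.y4.scalar hD.two (key y hD.yD hD.y4.1) hD.jy (key j hD.jD hD.j4.1)

theorem gm_scalar [Nonempty ι] {f : ι → GL (Fin 2) F} (hf : ∀ l, f l ∈ D) {s : Perm ι}
    (hr : gm e f s ∈ R) : ∃ μ, gm e f s = GeneralLinearGroup.scalar J μ := by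
  have : Nonempty J := ⟨a⟩
  obtain rfl := perm_one hD hT hR hab hn hr
  rw [gm, map_one, mul_one] at hr ⊢
  choose μ hμ using blk_scalar hD hT hR hab hn hf hr
  have h1 : ∀ l, μ l ∈ E2 F := fun l => (isPGroup_iff_mem.1 hD.pg _ (hf l)).imp fun k hk => by
    rw [hμ, scalar_eq, ← map_pow, ← map_one diagGL] at hk
    exact congrFun (dG_inj hk) 0
  have h2 := inv_mem (prod_mem fun l (_ : l ∈ Finset.univ) => hD.det_mem (hf l))
  generalize (∏ l, GeneralLinearGroup.det (f l))⁻¹ = ν at hr h2 ⊢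
  obtain rfl : f = fun l => diagGL fun _ => μ l := funext hμ
  rw [scalar_eq, Phi_dG] at hr ⊢
  generalize hu : (fun k => Sum.elim (fun p : Fin 2 × ι => μ p.2) (fun _ => ν) (e.symm k)) = u
    at hr ⊢
  have h3 : ∀ k, u k ∈ E2 F := fun k => by
    rw [← hu]
    dsimp only
    rcases e.symm k with p | p
    exacts [h1 _, h2]
  refine ⟨u a, congrArg diagGL (funext fun k => ?_)⟩
  by_contra h4
  obtain ⟨i⟩ := ‹Nonempty ι›
  obtain ⟨σ, e1, e2⟩ := ex_perm (show e (.inl (0, i)) ≠ e (.inl (1, i)) by simp)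
    (show k ≠ a from fun h => h4 (by rw [h]))
  have h5 := isConj_iff.2 ⟨_, pm_dG σ⁻¹ u⟩
  have h6 := hR.ad hr (allD_dG u) h5 (hT.dG hD (fun _ => h3 _) (sl_of_conj h5 (hT.le (hR.le hr))))
  rw [dG_eq e] at h6
  obtain ⟨ρ, h7⟩ := blk_scalar hD hT hR hab hn (fun l => hD.dg _ fun _ => h3 _) h6 i
  have h8 := dG_inj (h7.trans (scalar_eq ρ))
  refine h4 ?_
  rw [← e1, ← e2]
  exact (congrFun h8 0).trans (congrFun h8 1).symm

end none

end closed

end H20.LN.Sc
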